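import Groth.Agent.H34.CohFlat0.Family
import Groth.Agent.H34.ZarConn.Main
import Groth.Agent.Lib.ExchangeFP29.Main
import Groth.Agent.H54.BCX.Main
import Groth.Agent.Lib.Exchange.NearFibre
import Groth.Agent.Lib.TensorMod.FPConv
import Groth.Agent.Lib.Kaehler.SmoothChart
import Groth.Agent.Lib.FibreDim.Basic
import Groth.Agent.S9354

/-!
# Fibres of a fibration of a surface over a curve
-/

set_option autoImplicit false
set_option linter.style.haveILetI false
universe u

open CategoryTheory Limits AlgebraicGeometry TopologicalSpace

namespace Groth.Agent.H54.SurfFib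

open Groth.Agent Groth.Agent.Lib _root_.ZarCoh.Exchange

theorem fibreDimAt_smooth {X Y : Scheme.{u}} (f : X ⟶ Y) (n : ℕ)
    [h : SmoothOfRelativeDimension n f] (x : X) : FlatMor.fibreDimAt f x = (n : WithBot ℕ∞) := by
  obtain ⟨U, hU, V, hV, hx, e, hs⟩ := h.exists_isStandardSmoothOfRelativeDimension x
  exact Lib.Kaehler.SmoothChart.fibreDimAt_of_chart hU hV e hs hx

variable {k : Type u} [Field k] [IsAlgClosed k] {X S : Scheme.{u}}
  (π : X ⟶ S) (g : S ⟶ Spec (CommRingCat.of k))
  [SmoothOfRelativeDimension 1 g] [SmoothOfRelativeDimension 2 (π ≫ g)]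
  [IsProper π] [Flat π]

include g

omit [IsAlgClosed k] in
theorem dim_fiber_le (y : S) : topologicalKrullDim ↥(π.fiber y) ≤ (1 : ℕ) := by
  haveI : Smooth g := SmoothOfRelativeDimension.smooth 1 g
  refine FibreDim.Basic.topologicalKrullDim_fiber_le π fun x _ => ?_
  have h := (S9354.result π g x).2 ((Flat.iff_flat_stalkMap π).1 ‹Flat π› x)
  rw [fibreDimAt_smooth (π ≫ g) 2 x, fibreDimAt_smooth g 1 (π.base x)] at h
  revert h
  generalize FlatMor.fibreDimAt π x = a
  intro h
  induction a with
  | bot => exact bot_le
  | coe a =>
    induction a with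
    | top =>
      rw [← WithBot.coe_natCast 2, ← WithBot.coe_natCast 1, ← WithBot.coe_add, WithBot.coe_inj, top_add] at h
      exact absurd h (ENat.coe_ne_top _)
    | coe a =>
      rw [← WithBot.coe_natCast 2, ← WithBot.coe_natCast 1, ← WithBot.coe_add, WithBot.coe_inj] at h
      have : (2 : ℕ) = a + 1 := by exact_mod_cast h
      have : a ≤ 1 := by omega
      exact_mod_cast this

omit [IsAlgClosed k] in
theorem eulerChar_eq (y : S) :
    PerfAux.eulerChar π (Coh.structureModule X) y =
      (PerfAux.betti π (Coh.structureModule X) y 0 : ℤ) - PerfAux.betti π (Coh.structureModule X) y 1 := by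
  have hO := TensorMod.LocFree.of_rank (TensorMod.LocFree.of_isInvertible
    (PicLoc.isInvertible_structureModule X))
  haveI : (Coh.structureModule X).IsQuasicoherent :=
    have : SheafOfModules.IsFinitePresentation (R := X.ringCatSheaf) (Coh.structureModule X) :=
      TensorMod.FPConv.isFP_of_isFinLocFree hO
    inferInstance
  rw [PerfAux.eulerChar, finsum_eq_sum_of_support_subset _ (s := Finset.range 2)]
  · rw [Finset.sum_range_succ, Finset.sum_range_one, pow_zero, pow_one, one_mul, neg_one_mul,
      ← sub_eq_add_neg]
  · intro i hi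
    simp only [Finset.coe_range, Set.mem_Iio]
    by_contra hi2
    apply hi
    haveI := H54.BCX.Main.subsingleton_fiberH (f := π) (F := Coh.structureModule X) (d := 1) y
      (dim_fiber_le π g y) (show 1 < i by omega)
    have : PerfAux.betti π (Coh.structureModule X) y i = 0 := Module.finrank_zero_of_subsingleton
    show (-1 : ℤ) ^ i * (PerfAux.betti π (Coh.structureModule X) y i : ℤ) = 0
    rw [this]; simp

theorem main [IrreducibleSpace S]
    (hO : ∀ U : S.Opens, Function.Bijective (π.app U))
    (s : S) (hs : IsClosed ({s} : Set S)) [AlgebraicGeometry.IsReduced (π.fiber s)] :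
    PerfAux.betti π (Coh.structureModule X) s 0 = 1 ∧
      PerfAux.betti π (Coh.structureModule X) s 1 =
        PerfAux.betti π (Coh.structureModule X) (genericPoint S) 1 := by
  haveI : Smooth g := SmoothOfRelativeDimension.smooth 1 g
  haveI : IsLocallyNoetherian S := LocallyOfFiniteType.isLocallyNoetherian g
  haveI : LocallyOfFinitePresentation π := inferInstance
  have hiso : ∀ U : S.Opens, IsIso (π.app U) := fun U => (ConcreteCategory.isIso_iff_bijective _).2 (hO U)
  haveI := H34.ZarConn.geometricallyConnected π hiso
  have hne : ∀ y, ConnectedSpace (π.fiber y) := fun y => inferInstance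
  have hO' := TensorMod.LocFree.of_rank (TensorMod.LocFree.of_isInvertible
    (PicLoc.isInvertible_structureModule X))
  have hfp := TensorMod.FPConv.isFP_of_isFinLocFree hO'
  haveI : (Coh.structureModule X).IsQuasicoherent :=
    have : SheafOfModules.IsFinitePresentation (R := X.ringCatSheaf) (Coh.structureModule X) := hfp
    inferInstance
  have hfl := _root_.ZarCoh.Exchange.NearFibre.isFlatOver_of_isFinLocFree π hO'
  -- constants on the closed fibre
  have h0s : PerfAux.betti π (Coh.structureModule X) s 0 = 1 := by
    show CohIII.fiberRank π (Coh.structureModule X) 0 s = 1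
    rw [H34.CohFlat0.fiberRank_structure π s 0]
    letI : (π.fiber s).Over (Spec (CommRingCat.of (S.residueField s))) := ⟨π.fiberToSpecResidueField s⟩
    rw [H34.CohFlat0.finrank_HH_zero]
    haveI hac : IsAlgClosed (S.residueField s) :=
      IsAlgClosed.of_ringEquiv k _ (residueFieldIsoBase g s hs).commRingCatIsoToRingEquiv.symm
    haveI : IsAlgClosed (IsLocalRing.ResidueField (S.presheaf.stalk s)) := hac
    let c : π.fiber s ⟶ Spec (CommRingCat.of (S.residueField s)) := π.fiberToSpecResidueField s
    haveI : IsProper c := MorphismProperty.pullback_snd _ _ ‹IsProper π›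
    haveI : JacobsonSpace (π.fiber s) := LocallyOfFiniteType.jacobsonSpace c
    haveI := hne s
    obtain ⟨x, -, hx⟩ := nonempty_inter_closedPoints (X := π.fiber s) (Z := Set.univ)
      Set.univ_nonempty isClosed_univ.isLocallyClosed
    have hsurj := H2.Rigid.appTop_surjective_of_section c (pointOfClosedPoint c x hx)
      (pointOfClosedPoint_comp c x hx)
    letI : Algebra (S.residueField s) Γ(π.fiber s, ⊤) :=
      ((π.fiber s ↘ Spec (CommRingCat.of (S.residueField s))).appTop.hom.comp
        (Scheme.ΓSpecIso (CommRingCat.of (S.residueField s))).inv.hom).toAlgebra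
    have hb : Function.Surjective (algebraMap (S.residueField s) Γ(π.fiber s, ⊤)) :=
      hsurj.comp (Scheme.ΓSpecIso (CommRingCat.of (S.residueField s))).commRingCatIsoToRingEquiv.symm.surjective
    haveI : Nonempty (⊤ : (π.fiber s).Opens) := ⟨⟨x, trivial⟩⟩
    exact (Module.finrank_self (S.residueField s) ▸ (AlgEquiv.ofBijective (Algebra.ofId (S.residueField s) Γ(π.fiber s, ⊤))
      ⟨(algebraMap (S.residueField s) Γ(π.fiber s, ⊤)).injective, hb⟩).toLinearEquiv.finrank_eq).symm
  refine ⟨h0s, ?_⟩
  -- constants on the generic fibre
  have hle : CohIII.fiberRank π (Coh.structureModule X) 0 (genericPoint S) < 2 :=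
    ((genericPoint_spec S).mem_open_set_iff (ExchangeFP29.Main.isOpen_fiberRank_lt π _ hfp hfl 0 2)).2
      ⟨s, Set.mem_univ _, show CohIII.fiberRank π (Coh.structureModule X) 0 s < 2 by
        rw [← ExchangeFP29.Main.betti_eq, h0s]; omega⟩
  have hge : 0 < CohIII.fiberRank π (Coh.structureModule X) 0 (genericPoint S) := by
    haveI := ExchangeFP29.Main.finite_fiberH π (Coh.structureModule X) hfp (genericPoint S) 0
    show 0 < Module.finrank _ _
    haveI : Nontrivial (CohIII.fiberH π (Coh.structureModule X) (genericPoint S) 0) := by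
      letI : (π.fiber (genericPoint S)).Over (Spec (CommRingCat.of (S.residueField (genericPoint S)))) :=
        ⟨π.fiberToSpecResidueField (genericPoint S)⟩
      haveI := hne (genericPoint S)
      haveI : Nonempty (⊤ : (π.fiber (genericPoint S)).Opens) := ⟨⟨Classical.arbitrary _, trivial⟩⟩
      rw [← not_subsingleton_iff_nontrivial]
      intro hsub
      haveI : Subsingleton (CohIII.fiberH π (Coh.structureModule X) (genericPoint S) 0) := hsub
      haveI : Subsingleton (Coh.HH (π.fiber (genericPoint S)) (Coh.structureModule (π.fiber (genericPoint S))) 0) :=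
        (Curves.LES.isoK (S.residueField (genericPoint S))
          (PicLoc.pullbackStructureIso (π.fiberι (genericPoint S))) 0).symm.toEquiv.subsingleton
      have E := ((AcycRes.zeroIso (S.residueField (genericPoint S))).app
        (Coh.structureModule (π.fiber (genericPoint S)))).toLinearEquiv
      haveI : Subsingleton ((AcycRes.HF (S.residueField (genericPoint S)) 0).obj
          (Coh.structureModule (π.fiber (genericPoint S)))) :=
        show Subsingleton (Coh.HH (π.fiber (genericPoint S)) (Coh.structureModule (π.fiber (genericPoint S))) 0) from inferInstance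
      haveI := E.symm.toEquiv.subsingleton
      have h01 := Subsingleton.elim
        (CechRes.Sec.toSec (π.fiber (genericPoint S) ↘ Spec (CommRingCat.of (S.residueField (genericPoint S))))
          (show Γ(Coh.structureModule (π.fiber (genericPoint S)), ⊤) from (0 : Γ(π.fiber (genericPoint S), ⊤))))
        (CechRes.Sec.toSec (π.fiber (genericPoint S) ↘ Spec (CommRingCat.of (S.residueField (genericPoint S))))
          (show Γ(Coh.structureModule (π.fiber (genericPoint S)), ⊤) from (1 : Γ(π.fiber (genericPoint S), ⊤))))
      have := congrArg (CechRes.Sec.ofSec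
        (π.fiber (genericPoint S) ↘ Spec (CommRingCat.of (S.residueField (genericPoint S))))) h01
      replace this : (0 : Γ(π.fiber (genericPoint S), ⊤)) = 1 := this
      exact zero_ne_one this
    haveI := ExchangeFP29.Main.finite_fiberH π (Coh.structureModule X) hfp (genericPoint S) 0
    exact Module.finrank_pos
  have h0η : PerfAux.betti π (Coh.structureModule X) (genericPoint S) 0 = 1 := by
    rw [ExchangeFP29.Main.betti_eq]; omega
  have hc := (ExchangeFP29.Main.isLocallyConstant_eulerChar π _ hfp hfl).apply_eq_of_preconnectedSpace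
    s (genericPoint S)
  simp only [eulerChar_eq π g, h0s, h0η] at hc
  omega

end Groth.Agent.H54.SurfFib
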